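import Groth.Agent.Lib.DMV.Triangle

/-! Gluing two objects of the derived category along an open. -/

set_option autoImplicit false
set_option linter.style.haveILetI false
set_option linter.unusedSectionVars false
set_option backward.isDefEq.respectTransparency false
set_option backward.isDefEq.respectTransparency.types false

universe u v w

open CategoryTheory CategoryTheory.Limits AlgebraicGeometry Pretriangulated

namespace Groth.Agent.Glue9

attribute [local instance] HasDerivedCategory.standard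

section Tri

variable {C : Type w} [Category.{v} C] [HasZeroObject C] [HasShift C ℤ] [Preadditive C]
  [∀ n : ℤ, (shiftFunctor C n).Additive] [Pretriangulated C]

/-- In a triangle `X → A ⊕ B → Z →` with `X ≅ B`, one has `A ≅ Z`. -/
theorem isIso_inl_comp {X P Z : C} (f : X ⟶ P) (g : P ⟶ Z) (h : Z ⟶ X⟦(1 : ℤ)⟧)
    (hT : Triangle.mk f g h ∈ distTriang C) {A B : C} (iA : A ⟶ P) (pA : P ⟶ A) (iB : B ⟶ P) (pB : P ⟶ B)
    (hA : iA ≫ pA = 𝟙 A) (hAB : iA ≫ pB = 0) (htot : pA ≫ iA + pB ≫ iB = 𝟙 P) [IsIso (f ≫ pB)] :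
    IsIso (iA ≫ g) := by
  haveI : Mono f := mono_of_mono f pB
  have h0 : (Triangle.mk f g h).mor₃ = 0 := Triangle.mor₃_eq_zero_of_mono₁ _ hT ‹_›
  haveI : Epi g := Triangle.epi₂ _ hT h0
  let r : P ⟶ A := pA - pB ≫ inv (f ≫ pB) ≫ f ≫ pA
  have hr : f ≫ r = 0 := by
    simp only [r, Preadditive.comp_sub]
    rw [← Category.assoc f pB, IsIso.hom_inv_id_assoc, sub_self]
  obtain ⟨s, hs⟩ := Triangle.yoneda_exact₂ _ hT r hr
  have hs' : g ≫ s = r := hs.symm
  have hfg : f ≫ g = 0 := comp_distTriang_mor_zero₁₂ _ hT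
  refine ⟨s, ?_, ?_⟩
  · simp only [r] at hs'
    rw [Category.assoc, hs', Preadditive.comp_sub, hA, ← Category.assoc, hAB, zero_comp, sub_zero]
  · have hk : f ≫ pA ≫ iA ≫ g + f ≫ pB ≫ iB ≫ g = 0 := by
      rw [← Category.assoc pA, ← Category.assoc pB, ← Preadditive.comp_add, ← Preadditive.add_comp, htot,
        Category.id_comp, hfg]
    rw [← cancel_epi g, ← Category.assoc, hs', Category.comp_id]
    simp only [r, Preadditive.sub_comp, Category.assoc]
    rw [eq_neg_of_add_eq_zero_left hk, Preadditive.comp_neg, Preadditive.comp_neg, sub_neg_eq_add,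
      ← Category.assoc f, IsIso.inv_hom_id_assoc, ← Category.assoc pA, ← Category.assoc pB,
      ← Preadditive.add_comp, htot, Category.id_comp]

end Tri

variable {X : Scheme.{u}}

local notation "Cx" => ComplexShape.up ℤ

theorem isIso_restrict_ε (U : X.Opens) (M : X.Modules) :
    IsIso ((Scheme.Modules.restrictFunctor U.ι).map ((DMV.ε U).app M)) :=
  haveI : IsSplitEpi ((Scheme.Modules.restrictFunctor U.ι).map ((DMV.ε U).app M)) :=
    ⟨⟨⟨_, (CxOX.extZeroAdj U.ι).right_triangle_components M⟩⟩⟩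
  isIso_of_mono_of_epi _

theorem isIso_ε_obj (U : X.Opens) (N : (U : Scheme.{u}).Modules) :
    IsIso ((DMV.ε U).app ((CxOX.extZero U.ι).obj N)) :=
  haveI : IsSplitEpi ((DMV.ε U).app ((CxOX.extZero U.ι).obj N)) :=
    ⟨⟨⟨_, (CxOX.extZeroAdj U.ι).left_triangle_components N⟩⟩⟩
  isIso_of_mono_of_epi _

/-- `(U ∩ V)_! → V_!` becomes an isomorphism on `U`. -/
theorem isIso_restrict_incl {W U V : X.Opens} (hW : W = U ⊓ V) (h : W ≤ V) (M : X.Modules) :
    IsIso ((Scheme.Modules.restrictFunctor U.ι).map (DMV.incl h M)) := by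
  subst hW
  let R := Scheme.Modules.restrictFunctor U.ι
  let S := DMV.mvSC U V M
  have hS : (S.map R).Exact := (DMV.exact_mvSC (U := U) (V := V) M).map R
  haveI := isIso_restrict_ε U M
  have hsnd : S.f ≫ biprod.snd = -DMV.incl h M := biprod.lift_snd _ _
  have hinl : biprod.inl ≫ S.g = (DMV.ε U).app M := biprod.inl_desc _ _
  have hg : R.map biprod.inl ≫ (S.map R).g = R.map ((DMV.ε U).app M) :=
    (R.map_comp _ _).symm.trans (congrArg R.map hinl)
  haveI : Epi (R.map biprod.inl ≫ (S.map R).g) := by rw [hg]; infer_instance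
  haveI : Epi (S.map R).g := epi_of_epi (R.map biprod.inl) _
  haveI : Epi (R.map (DMV.incl h M)) := Preadditive.epi_of_cancel_zero _ fun {T} t ht => by
    have hk : (S.map R).f ≫ (R.map biprod.snd ≫ t) = 0 := by
      rw [← Category.assoc]
      refine Eq.trans (congrArg (· ≫ t) ((R.map_comp _ _).symm.trans (congrArg R.map hsnd))) ?_
      rw [R.map_neg, Preadditive.neg_comp, ht, neg_zero]
    obtain ⟨s, hs⟩ : ∃ s, (S.map R).g ≫ s = R.map biprod.snd ≫ t :=
      ⟨_, (CokernelCofork.IsColimit.desc' hS.gIsCokernel _ hk).2⟩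
    have h0 : R.map ((DMV.ε U).app M) ≫ s = 0 := by
      rw [← hg, Category.assoc, hs, ← Category.assoc]
      refine Eq.trans (congrArg (· ≫ t) ((R.map_comp _ _).symm.trans (congrArg R.map biprod.inl_snd))) ?_
      rw [R.map_zero, zero_comp]
    have hs0 : s = 0 := (cancel_epi (R.map ((DMV.ε U).app M))).1 (h0.trans comp_zero.symm)
    rw [hs0, comp_zero] at hs
    haveI : IsSplitEpi (R.map (biprod.snd : (DMV.jj U).obj M ⊞ (DMV.jj V).obj M ⟶ _)) :=
      ⟨⟨⟨R.map biprod.inr, by rw [← R.map_comp, biprod.inr_snd, R.map_id]⟩⟩⟩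
    exact (cancel_epi (R.map biprod.snd)).1 (hs.symm.trans comp_zero.symm)
  exact isIso_of_mono_of_epi _

theorem isIso_restrict_ε_inf {W U V : X.Opens} (hW : W = U ⊓ V) (h : W ≤ V) (N : (V : Scheme.{u}).Modules) :
    IsIso ((Scheme.Modules.restrictFunctor U.ι).map ((DMV.ε W).app ((CxOX.extZero V.ι).obj N))) := by
  haveI := isIso_restrict_incl hW h ((CxOX.extZero V.ι).obj N)
  haveI := isIso_ε_obj V N
  rw [← DMV.incl_ε h, Functor.map_comp]
  infer_instance

/-- Restriction after extension by zero. -/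
noncomputable def extResIso (U : X.Opens) :
    CxOX.extZero U.ι ⋙ Scheme.Modules.restrictFunctor U.ι ≅ 𝟭 (U : Scheme.{u}).Modules :=
  haveI : IsIso (Functor.whiskerRight (DMV.ε U) (Scheme.Modules.restrictFunctor U.ι)) :=
    haveI : ∀ M, IsIso ((Functor.whiskerRight (DMV.ε U) (Scheme.Modules.restrictFunctor U.ι)).app M) :=
      fun M => isIso_restrict_ε U M
    NatIso.isIso_of_isIso_app _
  let cu := asIso (Scheme.Modules.restrictAdjunction U.ι).counit
  (Functor.leftUnitor _).symm ≪≫ Functor.isoWhiskerRight cu.symm _ ≪≫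
    Functor.associator _ _ _ ≪≫
    Functor.isoWhiskerLeft _ ((Functor.associator _ _ _).symm ≪≫
      asIso (Functor.whiskerRight (DMV.ε U) (Scheme.Modules.restrictFunctor U.ι)) ≪≫ Functor.leftUnitor _) ≪≫
    cu

/-- Restriction to a smaller open after extension by zero. -/
noncomputable def extResLEIso {W U : X.Opens} (h : W ≤ U) :
    CxOX.extZero U.ι ⋙ Scheme.Modules.restrictFunctor W.ι ≅ Scheme.Modules.restrictFunctor (X.homOfLE h) :=
  Functor.isoWhiskerLeft _ (Scheme.Modules.restrictFunctorCongr (X.homOfLE_ι h).symm ≪≫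
      Scheme.Modules.restrictFunctorComp (X.homOfLE h) U.ι) ≪≫
    (Functor.associator _ _ _).symm ≪≫ Functor.isoWhiskerRight (extResIso U) _ ≪≫ Functor.leftUnitor _

/-- `extResLEIso` on complexes, in the derived category. -/
noncomputable def extResQ {W U : X.Opens} (h : W ≤ U)
    [PreservesFiniteLimits (Scheme.Modules.restrictFunctor (X.homOfLE h))]
    (K : CochainComplex (U : Scheme.{u}).Modules ℤ) :
    DerivedCategory.Q.obj (((Scheme.Modules.restrictFunctor W.ι).mapHomologicalComplex Cx).obj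
        (((CxOX.extZero U.ι).mapHomologicalComplex Cx).obj K)) ≅
      (DCoh.restrictD (X.homOfLE h)).obj (DerivedCategory.Q.obj K) :=
  DerivedCategory.Q.mapIso ((NatIso.mapHomologicalComplex (extResLEIso h) Cx).app K) ≪≫
    ((Scheme.Modules.restrictFunctor (X.homOfLE h)).mapDerivedCategoryFactors.app K).symm

theorem isIso_restrictD_εc {W U V : X.Opens} (hW : W = U ⊓ V) (h : W ≤ V)
    [PreservesFiniteLimits (Scheme.Modules.restrictFunctor U.ι)]
    (K : CochainComplex (V : Scheme.{u}).Modules ℤ) :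
    IsIso ((DCoh.restrictD U.ι).map
      (DerivedCategory.Q.map (DMV.εc W (((CxOX.extZero V.ι).mapHomologicalComplex Cx).obj K)))) := by
  let R := (Scheme.Modules.restrictFunctor U.ι).mapHomologicalComplex Cx
  let f := DMV.εc W (((CxOX.extZero V.ι).mapHomologicalComplex Cx).obj K)
  haveI : ∀ n, IsIso ((R.map f).f n) := fun n => isIso_restrict_ε_inf hW h (K.X n)
  haveI : IsIso (R.map f) := HomologicalComplex.Hom.isIso_of_components _
  have e := (Scheme.Modules.restrictFunctor U.ι).mapDerivedCategoryFactors.hom.naturality f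
  rw [← IsIso.eq_comp_inv] at e
  change IsIso ((DerivedCategory.Q ⋙ DCoh.restrictD U.ι).map f)
  rw [e]
  change IsIso ((_ ≫ DerivedCategory.Q.map (R.map f)) ≫ _)
  infer_instance

/-- `U_!` restricted to `U`, on complexes. -/
noncomputable def extResSelfQ (U : X.Opens) [PreservesFiniteLimits (Scheme.Modules.restrictFunctor U.ι)]
    (K : CochainComplex (U : Scheme.{u}).Modules ℤ) :
    (DCoh.restrictD U.ι).obj (DerivedCategory.Q.obj (((CxOX.extZero U.ι).mapHomologicalComplex Cx).obj K)) ≅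
      DerivedCategory.Q.obj K :=
  (Scheme.Modules.restrictFunctor U.ι).mapDerivedCategoryFactors.app _ ≪≫
    DerivedCategory.Q.mapIso (HomologicalComplex.Hom.isoOfComponents (fun n => (extResIso U).app (K.X n))
      fun i j _ => ((extResIso U).hom.naturality (K.d i j)).symm)

theorem exists_glue (U V : X.Opens)
    [PreservesFiniteLimits (Scheme.Modules.restrictFunctor U.ι)]
    [PreservesFiniteLimits (Scheme.Modules.restrictFunctor V.ι)]
    [PreservesFiniteLimits (Scheme.Modules.restrictFunctor (X.homOfLE (inf_le_left : U ⊓ V ≤ U)))]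
    [PreservesFiniteLimits (Scheme.Modules.restrictFunctor (X.homOfLE (inf_le_right : U ⊓ V ≤ V)))]
    (A : DCoh.D (U : Scheme.{u})) (B : DCoh.D (V : Scheme.{u}))
    (c : (DCoh.restrictD (X.homOfLE (inf_le_left : U ⊓ V ≤ U))).obj A ≅
      (DCoh.restrictD (X.homOfLE (inf_le_right : U ⊓ V ≤ V))).obj B) :
    ∃ F : DCoh.D X, Nonempty ((DCoh.restrictD U.ι).obj F ≅ A) ∧ Nonempty ((DCoh.restrictD V.ι).obj F ≅ B) := by
  let Q := DerivedCategory.Q (C := X.Modules)
  let KA := DerivedCategory.Q.objPreimage A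
  let KB := DerivedCategory.Q.objPreimage B
  let eA : DerivedCategory.Q.obj KA ≅ A := DerivedCategory.Q.objObjPreimageIso A
  let eB : DerivedCategory.Q.obj KB ≅ B := DerivedCategory.Q.objObjPreimageIso B
  let MA := ((CxOX.extZero U.ι).mapHomologicalComplex Cx).obj KA
  let MB := ((CxOX.extZero V.ι).mapHomologicalComplex Cx).obj KB
  let c' : DerivedCategory.Q.obj (((Scheme.Modules.restrictFunctor (U ⊓ V).ι).mapHomologicalComplex Cx).obj MA) ≅
      DerivedCategory.Q.obj (((Scheme.Modules.restrictFunctor (U ⊓ V).ι).mapHomologicalComplex Cx).obj MB) :=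
    extResQ inf_le_left KA ≪≫ (DCoh.restrictD (X.homOfLE (inf_le_left : U ⊓ V ≤ U))).mapIso eA ≪≫ c ≪≫
      (DCoh.restrictD (X.homOfLE (inf_le_right : U ⊓ V ≤ V))).mapIso eB.symm ≪≫ (extResQ inf_le_right KB).symm
  let φ : Q.obj (DMV.jjc (U ⊓ V) MA) ≅ Q.obj (DMV.jjc (U ⊓ V) MB) :=
    ((CxOX.extZero (U ⊓ V).ι).mapDerivedCategoryFactors.app _).symm ≪≫
      (CxOX.extZeroD (U ⊓ V).ι).mapIso c' ≪≫ (CxOX.extZero (U ⊓ V).ι).mapDerivedCategoryFactors.app _
  let f₁ : Q.obj (DMV.jjc (U ⊓ V) MA) ⟶ Q.obj MA := Q.map (DMV.εc (U ⊓ V) MA)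
  let f₂ : Q.obj (DMV.jjc (U ⊓ V) MA) ⟶ Q.obj MB := φ.hom ≫ Q.map (DMV.εc (U ⊓ V) MB)
  obtain ⟨F, g, h, hT⟩ := distinguished_cocone_triangle (biprod.lift f₁ f₂)
  refine ⟨F, ?_, ?_⟩
  · let R := DCoh.restrictD U.ι
    have hT' := R.map_distinguished _ hT
    haveI : IsIso (R.map (biprod.lift f₁ f₂) ≫ R.map biprod.snd) := by
      rw [← R.map_comp, biprod.lift_snd, R.map_comp]
      haveI := isIso_restrictD_εc (U := U) (W := U ⊓ V) rfl inf_le_right KB
      infer_instance
    haveI : IsIso (R.map biprod.inl ≫ R.map g) :=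
      isIso_inl_comp (R.map (biprod.lift f₁ f₂)) (R.map g) _ hT' (R.map biprod.inl) (R.map biprod.fst)
        (R.map biprod.inr) (R.map biprod.snd) (by rw [← R.map_comp, biprod.inl_fst, R.map_id])
        (by rw [← R.map_comp, biprod.inl_snd, R.map_zero])
        (by rw [← R.map_comp, ← R.map_comp, ← R.map_add, biprod.total, R.map_id])
    exact ⟨(asIso (R.map biprod.inl ≫ R.map g)).symm ≪≫ extResSelfQ U KA ≪≫ eA⟩
  · let R := DCoh.restrictD V.ι
    have hT' := R.map_distinguished _ hT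
    haveI : IsIso (R.map (biprod.lift f₁ f₂) ≫ R.map biprod.fst) := by
      rw [← R.map_comp, biprod.lift_fst]
      exact isIso_restrictD_εc (U := V) (W := U ⊓ V) (inf_comm U V) inf_le_left KA
    haveI : IsIso (R.map biprod.inr ≫ R.map g) :=
      isIso_inl_comp (R.map (biprod.lift f₁ f₂)) (R.map g) _ hT' (R.map biprod.inr) (R.map biprod.snd)
        (R.map biprod.inl) (R.map biprod.fst) (by rw [← R.map_comp, biprod.inr_snd, R.map_id])
        (by rw [← R.map_comp, biprod.inr_fst, R.map_zero])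
        (by rw [add_comm, ← R.map_comp, ← R.map_comp, ← R.map_add, biprod.total, R.map_id])
    exact ⟨(asIso (R.map biprod.inr ≫ R.map g)).symm ≪≫ extResSelfQ V KB ≪≫ eB⟩

end Groth.Agent.Glue9
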